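import Groth.Agent.VolLib.Main
import Groth.Agent.HilbLib.Positive
import Groth.Agent.AmpleEmb.FiniteSet
import Groth.Agent.AmpleEmb.Inverse
import Groth.Agent.AmpleEmb.Misc
import Groth.Agent.AmpleEmb.Compose
import Groth.Agent.AmpleEmb.SectionsGe
import Groth.Agent.AssLib.Morph
import Groth.Agent.AssLib.Push
import Groth.Agent.AssLib.Noetherian
import Groth.Agent.CurveLib.TensorExact
import Groth.Agent.CurveLib.Inv
import Groth.Agent.AmpleLib.Pullback

/-!
# Growth of sections of powers: the big invertible modules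
-/

set_option autoImplicit false
set_option backward.isDefEq.respectTransparency false
set_option linter.style.haveILetI false

universe u

open CategoryTheory CategoryTheory.Limits AlgebraicGeometry TopologicalSpace Opposite Polynomial
open Groth.Agent.PullbackMod Groth.Agent.DCohLib Groth.Agent.AmpleLib
open Groth.Agent.ParaFLib (oneG bijective_oneG)
open Groth.Agent.CurveLib (tmap)
open scoped TensorProduct

noncomputable section

namespace Groth.Agent.VanGrow

variable {X : Scheme.{u}}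

theorem finite_ass [IsLocallyNoetherian X] [CompactSpace X] {F : X.Modules} (hF : Coh.IsCoh F) :
    {x : X | Curv2.IsAssPoint F x}.Finite := by
  obtain ⟨S, hS⟩ := isCompact_univ.elim_finite_subcover (fun V : X.affineOpens => (V.1 : Set X))
    (fun V => V.1.isOpen) fun x _ => by
      obtain ⟨V, hV, hxV, -⟩ := exists_isAffineOpen_mem_and_subset (x := x) (U := ⊤) trivial
      exact Set.mem_iUnion.2 ⟨⟨V, hV⟩, hxV⟩
  refine (Set.Finite.biUnion S.finite_toSet fun V _ => AssLib.finite_ass_affine hF V.2).subset fun x hx => ?_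
  obtain ⟨V, hV, hxV⟩ := Set.mem_iUnion₂.1 (hS (Set.mem_univ x))
  exact Set.mem_iUnion₂.2 ⟨V, hV, hxV, hx⟩

/-- A twist by a section generating at the associated points is injective. -/
theorem mono_mulS [IsLocallyNoetherian X] {F P : X.Modules} (hF : Coh.IsCoh F) (hP : PicF.IsInvertible P)
    (t : Coh.structureModule X ⟶ P) (h : {x : X | Curv2.IsAssPoint F x} ⊆ CohB1.genLocus P t) :
    Mono ((AmpleLib.unitR F).inv ≫ CurveLib.mulS F t) := by
  set μ := (AmpleLib.unitR F).inv ≫ CurveLib.mulS F t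
  haveI := hF.1
  haveI : Coh.IsQCoh (tmod F P) := (CurveLib.isCoh_tmod hF (CurveLib.isCoh_of_isInvertible hP)).1
  have hone : ∀ y, stalkLin t y (oneG y) = P.presheaf.germ ⊤ y trivial (AmpleLib.sec t) := fun y =>
    stalkLin_germ t (U := ⊤) y trivial _
  have hbij : ∀ y, Curv2.IsAssPoint F y → Function.Bijective (stalkLin μ y) := fun y hy => by
    have hb := (AmpleLib.mem_genLocus_iff hP).1 (h hy)
    have htb : Function.Bijective (stalkLin t y) := by
      refine ⟨(injective_iff_map_eq_zero _).2 fun z hz => ?_, fun z => ?_⟩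
      · obtain ⟨r, rfl⟩ := (bijective_oneG y).2 z
        rw [map_smul, hone] at hz
        have hr : r = 0 := hb.1 (hz.trans (zero_smul _ _).symm)
        rw [hr]; exact zero_smul _ _
      · obtain ⟨r, rfl⟩ := hb.2 z
        exact ⟨r • oneG y, by rw [map_smul, hone]⟩
    rw [stalkLin_comp, LinearMap.coe_comp]
    refine Function.Bijective.comp ?_ (HilbLib.stalkLin_bijective_of_iso (AmpleLib.unitR F).symm y)
    have e' : (stalkLin (CurveLib.mulS F t) y) ∘ (stalkTensor y F (Coh.structureModule X)) =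
        (stalkTensor y F P) ∘ ((LinearEquiv.ofBijective _ htb).lTensor (F.presheaf.stalk y)) :=
      funext fun z => stalkTensor_natural_right y t z
    refine (Function.Bijective.of_comp_iff _ (stalkTensor y F (Coh.structureModule X)).bijective).1 ?_
    exact (congrArg Function.Bijective e').mpr ((stalkTensor y F P).bijective.comp (LinearEquiv.bijective _))
  have hinj := AssLib.app_injective_of μ fun y => by
    by_cases hy : Curv2.IsAssPoint F y
    · exact Or.inl (hbij y hy).1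
    · exact Or.inr fun hw => hy ((AssLib.isWeakAssPoint_iff_isAssPoint F y).1 hw)
  refine Preadditive.mono_of_cancel_zero _ fun g hg => Scheme.Modules.hom_ext _ _ fun U => ?_
  ext s
  refine hinj U ?_
  show μ.app U (g.app U s) = μ.app U 0
  rw [map_zero]
  exact congr($(hg).app U s)

set_option maxHeartbeats 1000000 in
/-- A twist of the dual of an invertible module by an ample one is ample. -/
theorem exists_inverse_twist {H L : X.Modules} (hH : CohB1.IsAmple H) (hL : PicF.IsInvertible L) :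
    ∃ (E : X.Modules) (J : ℕ), 0 < J ∧ CohB1.IsAmple E ∧
      Nonempty (CohB1.tensorMod L E ≅ CohB1.tensorPow H J) := by
  haveI := hH.2.1
  obtain ⟨L', hL', ⟨ι⟩⟩ := AmpleEmb.exists_isInverseOf hL
  obtain ⟨T, _, D, hD, s, e, e', V, hVa, he, he', -, -, hcov⟩ := AmpleEmb.exists_trivial_cover (𝟙 X) hH hL'
  obtain ⟨c, hc⟩ := AmpleEmb.exists_isAmple_tensor hL' (isInvertible_tensorPow hH.1 D) s hcov
    fun j => AmpleEmb.ampleOn_of_gen (hVa j) (he' j)
  refine ⟨_, D * (c + 1), Nat.mul_pos hD (Nat.succ_pos c), hc (c + 1) (Nat.le_succ c), ⟨?_⟩⟩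
  exact (assoc _ _ _).symm ≪≫ tIso ι (Iso.refl _) ≪≫ unitL _ ≪≫ powMul H D (c + 1)

variable (k : Type u) [Field k] [X.Over (Spec (CommRingCat.of k))] [IsProper (X ↘ Spec (CommRingCat.of k))]

/-- Global sections inject along monomorphisms. -/
theorem h_mono {A B : X.Modules} (f : A ⟶ B) [Mono f] (hB : Coh.IsCoh B) : VolLib.h k A ≤ VolLib.h k B := by
  haveI := EulerIneqLib.finite_HH (k := k) hB 0
  have hinj := CurveLib.hMap_f_zero_injective (k := k) (S := DevLib.cokerSeq f) (DevLib.cokerSeq_shortExact f)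
  haveI : Module.Finite k (Coh.HH X (DevLib.cokerSeq f).X₂ 0) := (inferInstanceAs (Module.Finite k (Coh.HH X B 0)))
  exact LinearMap.finrank_le_finrank_of_injective hinj

/-- Sections of the middle term when the left term has none. -/
theorem h_le_right {S : ShortComplex X.Modules} (hS : S.ShortExact) (h1 : Coh.IsCoh S.X₁) (h3 : Coh.IsCoh S.X₃)
    (h0 : VolLib.h k S.X₁ = 0) : VolLib.h k S.X₂ ≤ VolLib.h k S.X₃ := by
  haveI := EulerIneqLib.finite_HH (k := k) h1 0
  haveI := EulerIneqLib.finite_HH (k := k) h3 0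
  haveI : Subsingleton (Coh.HH X S.X₁ 0) := Module.finrank_zero_iff.1 h0
  refine LinearMap.finrank_le_finrank_of_injective (f := CurveLib.hMap (k := k) S.g 0)
    ((injective_iff_map_eq_zero _).2 fun x hx => ?_)
  obtain ⟨w, rfl⟩ := (CurveLib.range_hMap_f hS 0).ge (LinearMap.mem_ker.2 hx)
  rw [Subsingleton.elim w 0, map_zero]

/-- Sections of high twists by an ample module are polynomial. -/
theorem exists_poly_h0 {H F : X.Modules} (hH : CohB1.IsAmple H) (hF : Coh.IsCoh F) {n : ℕ}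
    (hd : topologicalKrullDim (CohB1.support F) < (n : WithBot ℕ∞)) :
    ∃ (Q : ℚ[X]) (N : ℕ), Q.degree < (n : WithBot ℕ) ∧ (∀ m : ℕ, HilbLib.chi k H F m = Q.eval (m : ℚ)) ∧
      ∀ q, N ≤ q → (VolLib.h k (CohB1.tensorMod F (CohB1.tensorPow H q)) : ℚ) = Q.eval (q : ℚ) := by
  haveI := EulerIneqLib.isNoetherian_proper (X := X) k
  obtain ⟨Q, hQ, hQe⟩ := HilbLib.exists_poly k hH.1 n F hF hd
  obtain ⟨N, hN⟩ := AmpleEmb.serre_vanishing (X ↘ Spec (CommRingCat.of k)) hH hF
  refine ⟨Q, N, hQ, hQe, fun q hq => ?_⟩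
  rw [← hQe]
  have h := CurveLib.euler_eq_sum (K := k) (ShStab.twist X H F q) 1 fun p hp => hN q hq p hp
  simp only [Finset.range_one, Finset.sum_singleton, pow_zero, one_mul] at h
  show _ = ((Curv2.euler k X _ : ℤ) : ℚ)
  rw [h]
  exact (Int.cast_natCast _).symm

omit k in
/-- Polynomials of degree less than `n` grow slower than `m ^ n`. -/
theorem exists_eval_le {Q : ℚ[X]} {n : ℕ} (hQ : Q.degree < (n : WithBot ℕ)) :
    ∃ C : ℚ, 0 ≤ C ∧ ∀ m : ℕ, 1 ≤ m → |Q.eval (m : ℚ)| * m ≤ C * (m : ℚ) ^ n := by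
  refine ⟨∑ i ∈ Finset.range n, |Q.coeff i|, Finset.sum_nonneg fun i _ => abs_nonneg _, fun m hm => ?_⟩
  have hm1 : (1 : ℚ) ≤ m := by exact_mod_cast hm
  have hcov : Q.eval (m : ℚ) = ∑ i ∈ Finset.range n, Q.coeff i * (m : ℚ) ^ i := by
    rcases eq_or_ne Q 0 with rfl | hQ0
    · simp
    · exact eval_eq_sum_range' (by rw [degree_eq_natDegree hQ0] at hQ; exact_mod_cast hQ) _
  rw [hcov, Finset.sum_mul]
  refine (mul_le_mul_of_nonneg_right (Finset.abs_sum_le_sum_abs _ _) (by positivity)).trans ?_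
  rw [Finset.sum_mul]
  refine Finset.sum_le_sum fun i hi => ?_
  rw [abs_mul, abs_pow, Nat.abs_cast, mul_assoc, ← pow_succ]
  exact mul_le_mul_of_nonneg_left (pow_le_pow_right₀ hm1 (Finset.mem_range.1 hi)) (abs_nonneg _)

/-- Twists by powers of an invertible module are bounded by twists by an ample module. -/
theorem exists_h_le_twist {H L F : X.Modules} (hH : CohB1.IsAmple H) (hL : PicF.IsInvertible L)
    (hF : Coh.IsCoh F) :
    ∃ e J : ℕ, 0 < e ∧ 0 < J ∧ ∀ m : ℕ, VolLib.h k (CohB1.tensorMod F (CohB1.tensorPow L (e * m))) ≤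
      VolLib.h k (CohB1.tensorMod F (CohB1.tensorPow H (J * m))) := by
  haveI := EulerIneqLib.isNoetherian_proper (X := X) k
  obtain ⟨E, J, hJ, hE, ⟨φ⟩⟩ := exists_inverse_twist hH hL
  obtain ⟨n, s, hs, -, -⟩ := AmpleEmb.exists_genLocus_finite hE (finite_ass hF) (U := ⊤) (fun _ _ => trivial)
  have hP : PicF.IsInvertible (CohB1.tensorPow E (n + 1)) := isInvertible_tensorPow hE.1 _
  generalize hPdef : CohB1.tensorPow E (n + 1) = P at s hs hP
  haveI := mono_mulS hF hP s hs
  have key : ∀ (m : ℕ) (N : X.Modules), PicF.IsInvertible N →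
      VolLib.h k (CohB1.tensorMod F N) ≤ VolLib.h k (CohB1.tensorMod F (CohB1.tensorMod (CohB1.tensorPow P m) N)) := by
    intro m
    induction m with
    | zero => exact fun N _ => (VolLib.h_congr k (tIso (Iso.refl F) (unitL N))).ge
    | succ m ih =>
      intro N hN
      refine le_trans ?_ ((ih _ (isInvertible_tensor hP hN)).trans_eq
        (VolLib.h_congr k (tIso (Iso.refl F) (assoc _ _ _).symm)))
      haveI := CurveLib.mono_tmap ((AmpleLib.unitR F).inv ≫ CurveLib.mulS F s)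
        (CurveLib.freeAt_one_of_isInvertible hN)
      exact (h_mono k (tmap ((AmpleLib.unitR F).inv ≫ CurveLib.mulS F s) N)
        (CurveLib.isCoh_tmod (CurveLib.isCoh_tmod hF (CurveLib.isCoh_of_isInvertible hP))
          (CurveLib.isCoh_of_isInvertible hN))).trans_eq (VolLib.h_congr k (assoc F P N))
  refine ⟨n + 1, J * (n + 1), Nat.succ_pos n, Nat.mul_pos hJ (Nat.succ_pos n), fun m => ?_⟩
  refine (key m _ (isInvertible_tensorPow hL _)).trans_eq (VolLib.h_congr k (tIso (Iso.refl F) ?_))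
  subst hPdef
  exact comm _ _ ≪≫ tIso (powMul L (n + 1) m).symm (Iso.refl _) ≪≫ (powTensor _ _ m).symm ≪≫
    powCongr ((powTensor L E (n + 1)).symm ≪≫ powCongr φ (n + 1) ≪≫ powMul H J (n + 1)) m ≪≫ powMul H _ m

variable [IsIntegral X]

theorem h_unit_ne_zero : VolLib.h k (Coh.structureModule X) ≠ 0 := by
  haveI := EulerIneqLib.isNoetherian_proper (X := X) k
  haveI := EulerIneqLib.finite_HH (k := k) (CurveLib.isCoh_of_isInvertible
    (ParaFLib.isInvertible_structureModule (X := X))) 0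
  haveI := EulerIneqLib.isNoetherian_proper (X := X) k
  haveI : Nonempty (⊤ : X.Opens) := ⟨⟨genericPoint X, trivial⟩⟩
  haveI : Nontrivial Γ(Coh.structureModule X, ⊤) := (inferInstance : Nontrivial Γ(X, ⊤))
  haveI : Nontrivial (Coh.HH X (Coh.structureModule X) 0) :=
    (CurveLib.secOf (Coh.structureModule X)).toEquiv.nontrivial
  exact Module.finrank_pos.ne'

/-- The dimension of the top part. -/
theorem dim_support_lt {n : ℕ} (hn : topologicalKrullDim X = n) {C : Set X} (hC : IsClosed C)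
    (h : genericPoint X ∉ C) : topologicalKrullDim C < (n : WithBot ℕ∞) := by
  have hcl : closure ({genericPoint X} : Set X) = Set.univ := genericPoint_closure _
  refine HilbLib.dim_lt_of_notMem hC (hcl ▸ Set.subset_univ C) h ?_
  refine lt_of_le_of_lt (Topology.IsInducing.subtypeVal.topologicalKrullDim_le.trans hn.le) ?_
  exact_mod_cast Nat.lt_succ_self n

/-- A big invertible module dominates an ample one. -/
theorem exists_mono_of_growth {n : ℕ} (hn : topologicalKrullDim X = n) {H L : X.Modules}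
    (hH : CohB1.IsAmple H) (hL : PicF.IsInvertible L) {ν a : ℕ} (hν : 0 < ν)
    (hg : ∀ μ : ℕ, 1 ≤ μ → μ ^ n ≤ a * VolLib.h k (CohB1.tensorPow L (ν * μ))) :
    ∃ (ν : ℕ) (A : X.Modules) (φ : A ⟶ CohB1.tensorPow L ν), 0 < ν ∧ CohB1.IsAmple A ∧ Mono φ := by
  classical
  haveI := EulerIneqLib.isNoetherian_proper (X := X) k
  obtain ⟨P, t, hP, hPa, hηt⟩ : ∃ (P : X.Modules) (t : Coh.structureModule X ⟶ P),
      PicF.IsInvertible P ∧ CohB1.IsAmple P ∧ genericPoint X ∈ CohB1.genLocus P t := by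
    obtain ⟨q, t, hηt, -, -⟩ := AmpleLib.exists_small_genLocus hH (U := ⊤) (x := genericPoint X) trivial
    exact ⟨_, t, isInvertible_tensorPow hH.1 _, (AmpleLib.isAmple_pow_iff hH.1 (Nat.succ_pos q)).2 hH, hηt⟩
  obtain ⟨P', hP', ⟨ιP⟩⟩ := AmpleEmb.exists_isInverseOf hP
  by_contra hcon
  have hno : ∀ m : ℕ, 0 < m → VolLib.h k (CohB1.tensorMod (CohB1.tensorPow L m) P') = 0 := fun m hm => by
    by_contra hne
    have hM := isInvertible_tensor (isInvertible_tensorPow hL m) hP'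
    haveI : Nontrivial (Coh.HH X (CohB1.tensorMod (CohB1.tensorPow L m) P') 0) :=
      Module.nontrivial_of_finrank_pos (R := k) (Nat.pos_of_ne_zero hne)
    obtain ⟨c, hc⟩ := exists_ne (0 : Coh.HH X (CohB1.tensorMod (CohB1.tensorPow L m) P') 0)
    haveI := CurveLib.mono_of_ne_zero ParaFLib.isInvertible_structureModule hM
      (CurveLib.secHom_secOf_ne_zero _ hc)
    haveI := CurveLib.mono_tmap (DCohLib.secHom (CohB1.tensorMod (CohB1.tensorPow L m) P')
      (CurveLib.secOf _ c)) (CurveLib.freeAt_one_of_isInvertible hP)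
    refine hcon ⟨m, P, (unitL P).inv ≫ tmap (DCohLib.secHom _ (CurveLib.secOf _ c)) P ≫
      (assoc _ _ _ ≪≫ tIso (Iso.refl _) (comm P' P ≪≫ ιP) ≪≫ unitR _).hom, hm, hPa, inferInstance⟩
  have ht : t ≠ 0 := fun h0 => by
    have hb := (AmpleLib.mem_genLocus_iff hP).1 hηt
    have e : AmpleLib.sec t = 0 := by rw [h0]; rfl
    rw [e, map_zero] at hb
    exact one_ne_zero (hb.1 ((smul_zero (1 : X.presheaf.stalk (genericPoint X))).trans (smul_zero 0).symm))
  haveI := CurveLib.mono_of_ne_zero ParaFLib.isInvertible_structureModule hP ht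
  have hO := CurveLib.isCoh_of_isInvertible (ParaFLib.isInvertible_structureModule (X := X))
  have hPc := CurveLib.isCoh_of_isInvertible hP
  have hC : Coh.IsCoh (cokernel t) := (QCohLib.isCoh_kernel_cokernel t hO hPc).2
  set F := CohB1.tensorMod (cokernel t) P'
  have hF : Coh.IsCoh F := CurveLib.isCoh_tmod hC (CurveLib.isCoh_of_isInvertible hP')
  have hd : topologicalKrullDim (CohB1.support F) < (n : WithBot ℕ∞) := by
    rw [show CohB1.support F = CohB1.support (cokernel t) from HilbLib.support_tensor hP' _]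
    exact dim_support_lt hn (DevLib.isClosed_support hC)
      (CurveLib.genericPoint_notMem_support ParaFLib.isInvertible_structureModule hP ht)
  have hle : ∀ m, 0 < m → VolLib.h k (CohB1.tensorPow L m) ≤
      VolLib.h k (CohB1.tensorMod F (CohB1.tensorPow L m)) := fun m hm => by
    have hN := isInvertible_tensor (isInvertible_tensorPow hL m) hP'
    have hNc := CurveLib.isCoh_of_isInvertible hN
    have h2 := h_le_right k (CurveLib.shortExact_tensR (DevLib.cokerSeq_shortExact t)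
        (CurveLib.freeAt_one_of_isInvertible hN))
      (CurveLib.isCoh_tmod hO hNc) (CurveLib.isCoh_tmod hC hNc)
      ((VolLib.h_congr k (unitL _)).trans (hno m hm))
    refine (VolLib.h_congr k ?_).ge.trans (h2.trans_eq (VolLib.h_congr k ?_))
    · exact tIso (Iso.refl P) (comm _ _) ≪≫ (assoc P P' _).symm ≪≫ tIso ιP (Iso.refl _) ≪≫ unitL _
    · exact tIso (Iso.refl _) (comm _ _) ≪≫ (assoc _ _ _).symm
  obtain ⟨e, J, he, hJ, hbound⟩ := exists_h_le_twist k hH hL hF
  obtain ⟨Q, N, hQ, -, hQh⟩ := exists_poly_h0 k hH hF hd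
  obtain ⟨C, hC0, hCb⟩ := exists_eval_le hQ
  obtain ⟨μ, hμN, hμ⟩ : ∃ μ : ℕ, N + 1 ≤ μ ∧ (a : ℚ) * C * ((J * ν : ℕ) : ℚ) ^ n < μ := by
    obtain ⟨μ, h⟩ := exists_nat_gt ((a : ℚ) * C * ((J * ν : ℕ) : ℚ) ^ n)
    exact ⟨max (N + 1) μ, le_max_left _ _, h.trans_le (by exact_mod_cast le_max_right _ _)⟩
  have hμ0 : 0 < μ := by omega
  have hq : N ≤ J * (ν * μ) :=
    le_trans (by omega : N ≤ μ) (le_trans (Nat.le_mul_of_pos_left μ hν) (Nat.le_mul_of_pos_left _ hJ))
  have h1 : ((μ : ℚ) * e) ^ n ≤ a * |Q.eval ((J * (ν * μ) : ℕ) : ℚ)| := by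
    have hg' := hg (μ * e) (Nat.mul_pos hμ0 he)
    rw [show ν * (μ * e) = e * (ν * μ) by ring] at hg'
    have := hg'.trans (Nat.mul_le_mul_left a ((hle _ (Nat.mul_pos he (Nat.mul_pos hν hμ0))).trans (hbound (ν * μ))))
    calc ((μ : ℚ) * e) ^ n = (((μ * e) ^ n : ℕ) : ℚ) := by push_cast; rfl
      _ ≤ ((a * VolLib.h k (CohB1.tensorMod F (CohB1.tensorPow H (J * (ν * μ)))) : ℕ) : ℚ) := by exact_mod_cast this
      _ = (a : ℚ) * Q.eval ((J * (ν * μ) : ℕ) : ℚ) := by rw [Nat.cast_mul, hQh _ hq]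
      _ ≤ _ := mul_le_mul_of_nonneg_left (le_abs_self _) (Nat.cast_nonneg _)
  have h2 : (μ : ℚ) ^ n ≤ ((μ : ℚ) * e) ^ n := by
    have : (1 : ℚ) ≤ (e : ℚ) := by exact_mod_cast he
    exact pow_le_pow_left₀ (by positivity) (le_mul_of_one_le_right (by positivity) this) n
  have h3 := hCb (J * (ν * μ)) (Nat.mul_pos hJ (Nat.mul_pos hν hμ0))
  have hμq : (μ : ℚ) ≤ ((J * (ν * μ) : ℕ) : ℚ) := by
    exact_mod_cast le_trans (Nat.le_mul_of_pos_left μ hν) (Nat.le_mul_of_pos_left _ hJ)
  have h4 : (μ : ℚ) ^ n * μ ≤ (a : ℚ) * C * ((J * ν : ℕ) : ℚ) ^ n * (μ : ℚ) ^ n := by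
    calc (μ : ℚ) ^ n * μ ≤ (a : ℚ) * |Q.eval ((J * (ν * μ) : ℕ) : ℚ)| * ((J * (ν * μ) : ℕ) : ℚ) :=
          mul_le_mul (h2.trans h1) hμq (by positivity) (by positivity)
      _ ≤ (a : ℚ) * (C * ((J * (ν * μ) : ℕ) : ℚ) ^ n) := by
          rw [mul_assoc]; exact mul_le_mul_of_nonneg_left h3 (Nat.cast_nonneg _)
      _ = _ := by push_cast; ring
  rw [mul_comm ((a : ℚ) * C * _)] at h4
  exact absurd (le_of_mul_le_mul_left h4 (by positivity)) (not_le.2 hμ)

/-- An invertible module dominating an ample one is big. -/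
theorem exists_growth_of_mono {n : ℕ} (hn : topologicalKrullDim X = n) {A L : X.Modules}
    (hA : CohB1.IsAmple A) (hL : PicF.IsInvertible L) {ν : ℕ} (φ : A ⟶ CohB1.tensorPow L ν) [Mono φ]
    (hν : 0 < ν) :
    ∃ ν a : ℕ, 0 < ν ∧ 0 < a ∧ ∀ μ : ℕ, 1 ≤ μ → μ ^ n ≤ a * VolLib.h k (CohB1.tensorPow L (ν * μ)) := by
  haveI := EulerIneqLib.isNoetherian_proper (X := X) k
  have hM : PicF.IsInvertible (CohB1.tensorPow L ν) := isInvertible_tensorPow hL _
  obtain ⟨A', hA', ⟨ιA⟩⟩ := AmpleEmb.exists_isInverseOf hA.1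
  let M := CohB1.tensorPow L ν
  let E := CohB1.tensorMod M A'
  have hE : PicF.IsInvertible E := isInvertible_tensor hM hA'
  have hEh : VolLib.h k E ≠ 0 := fun h0 => h_unit_ne_zero k (X := X) (Nat.eq_zero_of_le_zero (by
    haveI := CurveLib.mono_tmap φ (CurveLib.freeAt_one_of_isInvertible hA')
    have h1 : VolLib.h k (CohB1.tensorMod A A') ≤ VolLib.h k E :=
      h_mono k (tmap φ A') (CurveLib.isCoh_of_isInvertible hE)
    rw [h0] at h1
    exact (VolLib.h_congr k ιA).ge.trans h1))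
  have hcmp : ∀ q, 1 ≤ q → VolLib.h k (CohB1.tensorPow A q) ≤ VolLib.h k (CohB1.tensorPow L (ν * q)) := fun q hq => by
    obtain ⟨q, rfl⟩ : ∃ j, q = j + 1 := ⟨q - 1, by omega⟩
    refine (VolLib.h_le_tensor k (isInvertible_tensorPow hA.1 _) (isInvertible_tensorPow hE _)
      (VolLib.h_pow_ne_zero k hE hEh q)).trans_eq (VolLib.h_congr k ?_)
    exact (powTensor A E (q + 1)).symm ≪≫ powCongr ((assoc A M A').symm ≪≫ tIso (comm A M) (Iso.refl A') ≪≫
      assoc M A A' ≪≫ tIso (Iso.refl M) ιA ≪≫ unitR M) (q + 1) ≪≫ powMul L ν (q + 1)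
  have hO := CurveLib.isCoh_of_isInvertible (ParaFLib.isInvertible_structureModule (X := X))
  have hsupp : CohB1.support (Coh.structureModule X) = Set.univ := Set.eq_univ_of_forall fun x =>
    haveI : Nontrivial ((Coh.structureModule X).presheaf.stalk x) :=
      (bijective_oneG x).1.nontrivial
    not_subsingleton _
  have hd : topologicalKrullDim (CohB1.support (Coh.structureModule X)) < ((n + 1 : ℕ) : WithBot ℕ∞) := by
    refine lt_of_le_of_lt (Topology.IsInducing.subtypeVal.topologicalKrullDim_le.trans hn.le) ?_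
    exact_mod_cast Nat.lt_succ_self n
  obtain ⟨P, N, hP, hPe, hPh⟩ := exists_poly_h0 k hA hO hd
  have hch : HilbLib.HasChain n (CohB1.support (Coh.structureModule X)) := by
    rw [hsupp]
    refine (HilbLib.not_dim_lt_iff isClosed_univ n).1 fun hlt => ?_
    have : topologicalKrullDim X ≤ topologicalKrullDim (Set.univ : Set X) :=
      (Homeomorph.Set.univ X).symm.isClosedEmbedding.isInducing.topologicalKrullDim_le
    exact absurd (lt_of_le_of_lt (hn.ge.trans this) hlt) (lt_irrefl _)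
  have hc : 0 < P.coeff n := HilbLib.coeff_pos k hA n _ hO hd P hP hPe hch
  have hR : (P - C (P.coeff n) * Polynomial.X ^ n).degree < (n : WithBot ℕ) := by
    rw [degree_lt_iff_coeff_zero]
    intro m hm
    rcases hm.eq_or_lt with rfl | hlt
    · simp
    · rw [coeff_sub, coeff_C_mul_X_pow, if_neg hlt.ne', sub_zero]
      exact (degree_lt_iff_coeff_zero P (n + 1)).1 hP m hlt
  obtain ⟨C₁, hC₁, hCb⟩ := exists_eval_le hR
  obtain ⟨q₀, hq₀N, hq₀⟩ : ∃ q₀ : ℕ, N + 1 ≤ q₀ ∧ 2 * C₁ / P.coeff n < q₀ := by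
    obtain ⟨q, h⟩ := exists_nat_gt (2 * C₁ / P.coeff n)
    exact ⟨max (N + 1) q, le_max_left _ _, h.trans_le (by exact_mod_cast le_max_right _ _)⟩
  obtain ⟨a, ha⟩ := exists_nat_gt (2 / P.coeff n)
  refine ⟨ν * q₀, a + 1, Nat.mul_pos hν (by omega), Nat.succ_pos a, fun μ hμ => ?_⟩
  set q := q₀ * μ with hqdef
  have hq0 : q₀ ≤ q := Nat.le_mul_of_pos_right _ hμ
  have hq1 : 1 ≤ q := by omega
  have hμq : μ ≤ q := Nat.le_mul_of_pos_left _ (by omega)
  have hb := hCb q hq1
  have hqQ : (0 : ℚ) < q := by exact_mod_cast hq1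
  have hlow : P.coeff n / 2 * (q : ℚ) ^ n ≤ P.eval (q : ℚ) := by
    have e : (P - C (P.coeff n) * Polynomial.X ^ n).eval (q : ℚ) = P.eval (q : ℚ) - P.coeff n * (q : ℚ) ^ n := by simp
    rw [e] at hb
    have hCq : 2 * C₁ ≤ P.coeff n * q := by
      have hq0' : (q₀ : ℚ) ≤ (q : ℚ) := Nat.cast_le.2 hq0
      have := (div_lt_iff₀ hc).1 (lt_of_lt_of_le hq₀ hq0')
      linarith
    have h2 : |P.eval (q : ℚ) - P.coeff n * (q : ℚ) ^ n| * q ≤ P.coeff n / 2 * (q : ℚ) ^ n * q :=
      hb.trans (by nlinarith [pow_pos hqQ n])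
    have h3 := le_of_mul_le_mul_right h2 hqQ
    rw [abs_le] at h3
    linarith
  have hh : P.eval (q : ℚ) ≤ (VolLib.h k (CohB1.tensorPow L (ν * q₀ * μ)) : ℚ) := by
    rw [← hPh q (by omega), VolLib.h_congr k (unitL _), mul_assoc]
    exact_mod_cast hcmp q hq1
  have hμn : (μ : ℚ) ^ n ≤ (q : ℚ) ^ n := pow_le_pow_left₀ (by positivity) (by exact_mod_cast hμq) n
  have ha' : 1 ≤ (a + 1 : ℚ) * (P.coeff n / 2) := by
    have := (div_lt_iff₀ hc).1 ha
    linarith
  have : (μ : ℚ) ^ n ≤ ((a + 1 : ℕ) : ℚ) * (VolLib.h k (CohB1.tensorPow L (ν * q₀ * μ)) : ℚ) := by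
    push_cast
    calc (μ : ℚ) ^ n ≤ (q : ℚ) ^ n := hμn
      _ ≤ (a + 1 : ℚ) * (P.coeff n / 2 * (q : ℚ) ^ n) := by
          rw [← mul_assoc]; exact le_mul_of_one_le_left (by positivity) ha'
      _ ≤ _ := mul_le_mul_of_nonneg_left (hlow.trans hh) (by positivity)
  exact_mod_cast this

end Groth.Agent.VanGrow
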