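import Groth.Agent.VanGrowLib.Main
import Groth.Agent.AmpleEmb.Generated
import Groth.Agent.ASBunKS.Simple
import Groth.Agent.CurveLib.SmulPow
import Groth.Agent.CurveLib.Euler

/-!
# Bigness from the upper limit, and its consequences for top cohomology
-/

set_option autoImplicit false
set_option backward.isDefEq.respectTransparency false
set_option linter.style.haveILetI false

universe u

open CategoryTheory CategoryTheory.Limits AlgebraicGeometry TopologicalSpace Opposite Polynomial Filter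
open Groth.Agent.PullbackMod Groth.Agent.DCohLib Groth.Agent.AmpleLib
open Groth.Agent.CurveLib (tmap)

noncomputable section

namespace Groth.Agent.VanGrow

variable (k : Type u) [Field k] {X : Scheme.{u}} [X.Over (Spec (CommRingCat.of k))]
  [IsProper (X ↘ Spec (CommRingCat.of k))] [IsIntegral X]

/-- Along the exponents where a power is effective, sections grow with multiples of the exponent. -/
theorem h_le_mul {L : X.Modules} (hL : PicF.IsInvertible L) {e m : ℕ} (he : 0 < e)
    (hm : VolLib.h k (CohB1.tensorPow L m) ≠ 0) :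
    VolLib.h k (CohB1.tensorPow L m) ≤ VolLib.h k (CohB1.tensorPow L (e * m)) := by
  obtain _ | _ | e := e
  · exact absurd he (lt_irrefl 0)
  · simp
  · have h1 := VolLib.h_pow_ne_zero k (isInvertible_tensorPow hL m) hm e
    rw [VolLib.h_congr k (powMul L m (e + 1))] at h1
    refine (VolLib.h_le_tensor k (isInvertible_tensorPow hL m)
      (isInvertible_tensorPow hL (m * (e + 1))) h1).trans_eq ?_
    rw [← VolLib.h_congr k (powAdd L m (m * (e + 1))), show m + m * (e + 1) = (e + 1 + 1) * m by ring]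

/-- An invertible module whose sections grow maximally along some exponents dominates an ample one. -/
theorem exists_mono_of_freq {n : ℕ} (hn : topologicalKrullDim X = n) {H L : X.Modules}
    (hH : CohB1.IsAmple H) (hL : PicF.IsInvertible L) {c : ℝ} (hc : 0 < c)
    (hg : ∃ᶠ m : ℕ in atTop, c * (m : ℝ) ^ n ≤ (VolLib.h k (CohB1.tensorPow L m) : ℝ)) :
    ∃ (ν : ℕ) (A : X.Modules) (φ : A ⟶ CohB1.tensorPow L ν), 0 < ν ∧ CohB1.IsAmple A ∧ Mono φ := by
  classical
  haveI := EulerIneqLib.isNoetherian_proper (X := X) k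
  obtain ⟨P, t, hP, hPa, hηt⟩ : ∃ (P : X.Modules) (t : Coh.structureModule X ⟶ P),
      PicF.IsInvertible P ∧ CohB1.IsAmple P ∧ genericPoint X ∈ CohB1.genLocus P t := by
    obtain ⟨q, t, hηt, -, -⟩ := AmpleLib.exists_small_genLocus hH (U := ⊤) (x := genericPoint X) trivial
    exact ⟨_, t, isInvertible_tensorPow hH.1 _, (AmpleLib.isAmple_pow_iff hH.1 (Nat.succ_pos q)).2 hH, hηt⟩
  obtain ⟨P', hP', ⟨ιP⟩⟩ := AmpleEmb.exists_isInverseOf hP
  by_contra hcon
  have hno : ∀ m : ℕ, 0 < m → VolLib.h k (CohB1.tensorMod (CohB1.tensorPow L m) P') = 0 := fun m hm => by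
    by_contra hne
    have hM := isInvertible_tensor (isInvertible_tensorPow hL m) hP'
    haveI : Nontrivial (Coh.HH X (CohB1.tensorMod (CohB1.tensorPow L m) P') 0) :=
      Module.nontrivial_of_finrank_pos (R := k) (Nat.pos_of_ne_zero hne)
    obtain ⟨c, hc⟩ := exists_ne (0 : Coh.HH X (CohB1.tensorMod (CohB1.tensorPow L m) P') 0)
    haveI := CurveLib.mono_of_ne_zero ParaFLib.isInvertible_structureModule hM
      (CurveLib.secHom_secOf_ne_zero _ hc)
    haveI := CurveLib.mono_tmap (DCohLib.secHom (CohB1.tensorMod (CohB1.tensorPow L m) P')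
      (CurveLib.secOf _ c)) (CurveLib.freeAt_one_of_isInvertible hP)
    refine hcon ⟨m, P, (unitL P).inv ≫ tmap (DCohLib.secHom _ (CurveLib.secOf _ c)) P ≫
      (assoc _ _ _ ≪≫ tIso (Iso.refl _) (comm P' P ≪≫ ιP) ≪≫ unitR _).hom, hm, hPa, inferInstance⟩
  have ht : t ≠ 0 := fun h0 => by
    have hb := (AmpleLib.mem_genLocus_iff hP).1 hηt
    have e : AmpleLib.sec t = 0 := by rw [h0]; rfl
    rw [e, map_zero] at hb
    exact one_ne_zero (hb.1 ((smul_zero (1 : X.presheaf.stalk (genericPoint X))).trans (smul_zero 0).symm))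
  haveI := CurveLib.mono_of_ne_zero ParaFLib.isInvertible_structureModule hP ht
  have hO := CurveLib.isCoh_of_isInvertible (ParaFLib.isInvertible_structureModule (X := X))
  have hPc := CurveLib.isCoh_of_isInvertible hP
  have hC : Coh.IsCoh (cokernel t) := (QCohLib.isCoh_kernel_cokernel t hO hPc).2
  set F := CohB1.tensorMod (cokernel t) P'
  have hF : Coh.IsCoh F := CurveLib.isCoh_tmod hC (CurveLib.isCoh_of_isInvertible hP')
  have hd : topologicalKrullDim (CohB1.support F) < (n : WithBot ℕ∞) := by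
    rw [show CohB1.support F = CohB1.support (cokernel t) from HilbLib.support_tensor hP' _]
    exact dim_support_lt hn (DevLib.isClosed_support hC)
      (CurveLib.genericPoint_notMem_support ParaFLib.isInvertible_structureModule hP ht)
  have hle : ∀ m, 0 < m → VolLib.h k (CohB1.tensorPow L m) ≤
      VolLib.h k (CohB1.tensorMod F (CohB1.tensorPow L m)) := fun m hm => by
    have hN := isInvertible_tensor (isInvertible_tensorPow hL m) hP'
    have hNc := CurveLib.isCoh_of_isInvertible hN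
    have h2 := h_le_right k (CurveLib.shortExact_tensR (DevLib.cokerSeq_shortExact t)
        (CurveLib.freeAt_one_of_isInvertible hN))
      (CurveLib.isCoh_tmod hO hNc) (CurveLib.isCoh_tmod hC hNc)
      ((VolLib.h_congr k (unitL _)).trans (hno m hm))
    refine (VolLib.h_congr k ?_).ge.trans (h2.trans_eq (VolLib.h_congr k ?_))
    · exact tIso (Iso.refl P) (comm _ _) ≪≫ (assoc P P' _).symm ≪≫ tIso ιP (Iso.refl _) ≪≫ unitL _
    · exact tIso (Iso.refl _) (comm _ _) ≪≫ (assoc _ _ _).symm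
  obtain ⟨e, J, he, hJ, hbound⟩ := exists_h_le_twist k hH hL hF
  obtain ⟨Q, N, hQ, -, hQh⟩ := exists_poly_h0 k hH hF hd
  obtain ⟨C, hC0, hCb⟩ := exists_eval_le hQ
  obtain ⟨μ, hμ⟩ := exists_nat_gt ((C : ℝ) * (J : ℝ) ^ n / (c * J))
  obtain ⟨m, hm, hgm⟩ := (frequently_atTop.1 hg) (max μ N + 1)
  have hm0 : 0 < m := by omega
  have hne : VolLib.h k (CohB1.tensorPow L m) ≠ 0 := fun h0 => by
    rw [h0, Nat.cast_zero] at hgm
    exact absurd hgm (not_le.2 (by positivity))
  have hq : N ≤ J * m := le_trans (by omega : N ≤ m) (Nat.le_mul_of_pos_left m hJ)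
  have h1 : (VolLib.h k (CohB1.tensorPow L m) : ℚ) ≤ |Q.eval ((J * m : ℕ) : ℚ)| := by
    refine le_trans ?_ (le_abs_self _)
    rw [← hQh _ hq]
    exact_mod_cast ((h_le_mul k hL he hne).trans (hle _ (Nat.mul_pos he hm0))).trans (hbound m)
  have h2 : (VolLib.h k (CohB1.tensorPow L m) : ℚ) * ((J * m : ℕ) : ℚ) ≤ C * ((J * m : ℕ) : ℚ) ^ n :=
    (mul_le_mul_of_nonneg_right h1 (Nat.cast_nonneg _)).trans (hCb _ (Nat.mul_pos hJ hm0))
  have h3 : (VolLib.h k (CohB1.tensorPow L m) : ℝ) * ((J : ℝ) * m) ≤ (C : ℝ) * ((J : ℝ) * m) ^ n := by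
    have h2' : (((VolLib.h k (CohB1.tensorPow L m) : ℚ) * ((J * m : ℕ) : ℚ) : ℚ) : ℝ) ≤
        ((C * ((J * m : ℕ) : ℚ) ^ n : ℚ) : ℝ) := Rat.cast_le.2 h2
    push_cast at h2'
    exact h2'
  have hJR : (0 : ℝ) < J := by exact_mod_cast hJ
  have hmR : (0 : ℝ) < (m : ℝ) ^ n := pow_pos (by exact_mod_cast hm0) n
  have h4 : c * J * m * (m : ℝ) ^ n ≤ (C : ℝ) * (J : ℝ) ^ n * (m : ℝ) ^ n :=
    calc c * J * m * (m : ℝ) ^ n = c * (m : ℝ) ^ n * ((J : ℝ) * m) := by ring
      _ ≤ (VolLib.h k (CohB1.tensorPow L m) : ℝ) * ((J : ℝ) * m) :=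
        mul_le_mul_of_nonneg_right hgm (by positivity)
      _ ≤ (C : ℝ) * ((J : ℝ) * m) ^ n := h3
      _ = _ := by ring
  have h5 := le_of_mul_le_mul_right h4 hmR
  have h6 := (div_lt_iff₀ (mul_pos hc hJR)).1 hμ
  have h7 : (μ : ℝ) * (c * J) ≤ m * (c * J) :=
    mul_le_mul_of_nonneg_right (by exact_mod_cast (by omega : μ ≤ m)) (by positivity)
  linarith

omit k in
/-- Powers of a monomorphism of invertible modules. -/
theorem exists_mono_pow {A L : X.Modules} (hA : PicF.IsInvertible A) (hL : PicF.IsInvertible L) {ν : ℕ}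
    (φ : A ⟶ CohB1.tensorPow L ν) [Mono φ] :
    ∀ j, ∃ ψ : CohB1.tensorPow A j ⟶ CohB1.tensorPow L (ν * j), Mono ψ
  | 0 => ⟨𝟙 _, (inferInstance : Mono (𝟙 (Coh.structureModule X)))⟩
  | j + 1 => by
    obtain ⟨ψ, hψ⟩ := exists_mono_pow hA hL φ j
    haveI := CurveLib.mono_tmap ψ (CurveLib.freeAt_one_of_isInvertible hA)
    haveI := CurveLib.mono_tmap φ (CurveLib.freeAt_one_of_isInvertible (isInvertible_tensorPow hL (ν * j)))
    refine ⟨(tmap ψ A : CohB1.tensorPow A (j + 1) ⟶ CohB1.tensorMod (CohB1.tensorPow L (ν * j)) A) ≫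
      (comm _ _).hom ≫ tmap φ (CohB1.tensorPow L (ν * j)) ≫ (comm _ _).hom ≫
      (powAdd L (ν * j) ν).inv ≫ (eqToIso (by rw [Nat.mul_succ]) : CohB1.tensorPow L (ν * j + ν) ≅
        CohB1.tensorPow L (ν * (j + 1))).hom, inferInstance⟩

omit k in
/-- The twisted powers of a monomorphism of invertible modules. -/
theorem exists_mono_twist {A L : X.Modules} (hA : PicF.IsInvertible A) (hL : PicF.IsInvertible L) {ν : ℕ}
    (φ : A ⟶ CohB1.tensorPow L ν) [Mono φ] (m : ℕ) :
    ∃ ψ : CohB1.tensorMod (CohB1.tensorPow L (m % ν)) (CohB1.tensorPow A (m / ν)) ⟶ CohB1.tensorPow L m,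
      Mono ψ := by
  obtain ⟨ψ, hψ⟩ := exists_mono_pow hA hL φ (m / ν)
  haveI := CurveLib.mono_tmap ψ (CurveLib.freeAt_one_of_isInvertible (isInvertible_tensorPow hL (m % ν)))
  exact ⟨(comm _ _).hom ≫ tmap ψ (CohB1.tensorPow L (m % ν)) ≫ (powAdd L (ν * (m / ν)) (m % ν)).inv ≫
    (eqToIso (by rw [Nat.div_add_mod]) : CohB1.tensorPow L (ν * (m / ν) + m % ν) ≅
      CohB1.tensorPow L m).hom, inferInstance⟩

include k in
/-- The top cohomology of the high powers of a module dominating an ample one vanishes. -/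
theorem exists_top_vanish {n : ℕ} (hn : topologicalKrullDim X = n) (hn1 : 1 ≤ n) {A L : X.Modules}
    (hA : CohB1.IsAmple A) (hL : PicF.IsInvertible L) {ν : ℕ} (hν : 0 < ν)
    (φ : A ⟶ CohB1.tensorPow L ν) [Mono φ] :
    ∃ m₀, ∀ m, m₀ ≤ m → Subsingleton (Coh.HH X (CohB1.tensorPow L m) n) := by
  haveI := EulerIneqLib.isNoetherian_proper (X := X) k
  choose N hN using fun b : ℕ => AmpleEmb.serre_vanishing (X ↘ Spec (CommRingCat.of k)) hA
    (CurveLib.isCoh_of_isInvertible (isInvertible_tensorPow hL b))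
  refine ⟨ν * (∑ b ∈ Finset.range ν, N b), fun m hm => ?_⟩
  have hj : N (m % ν) ≤ m / ν := le_trans
    (Finset.single_le_sum (f := N) (fun _ _ => Nat.zero_le _) (Finset.mem_range.2 (Nat.mod_lt _ hν)))
    ((Nat.le_div_iff_mul_le hν).2 (by rw [mul_comm]; exact hm))
  obtain ⟨ψ, hψ⟩ := exists_mono_twist hA.1 hL φ m
  have hI := isInvertible_tensor (isInvertible_tensorPow hL (m % ν)) (isInvertible_tensorPow hA.1 (m / ν))
  have hψ0 : ψ ≠ 0 := fun h => ASBunKS.id_ne_zero_of_invertible hI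
    ((cancel_mono ψ).1 (by rw [h, Limits.comp_zero, Limits.comp_zero]))
  have hC : Coh.IsCoh (cokernel ψ) := (QCohLib.isCoh_kernel_cokernel ψ (CurveLib.isCoh_of_isInvertible hI)
    (CurveLib.isCoh_of_isInvertible (isInvertible_tensorPow hL m))).2
  have hd := dim_support_lt hn (DevLib.isClosed_support hC)
    (CurveLib.genericPoint_notMem_support hI (isInvertible_tensorPow hL m) hψ0)
  haveI : Subsingleton (Coh.HH X (DevLib.cokerSeq ψ).X₁ n) := hN _ _ hj n hn1
  haveI : Subsingleton (Coh.HH X (DevLib.cokerSeq ψ).X₃ n) := by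
    obtain ⟨j, rfl⟩ : ∃ j, n = j + 1 := ⟨n - 1, by omega⟩
    refine CurveLib.subsingleton_HH_of_support _ (DevLib.isClosed_support hC) subset_rfl (d := j) ?_
      (Nat.lt_succ_self j)
    rw [Nat.cast_succ] at hd
    revert hd
    generalize topologicalKrullDim (CohB1.support (cokernel ψ)) = a
    induction a with
    | bot => exact fun _ => bot_le
    | coe a =>
      intro hd
      have h' : a < ((j : ℕ∞) + 1) := by exact_mod_cast hd
      exact_mod_cast ((ENat.lt_add_one_iff (ENat.coe_ne_top j)).1 h')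
  exact CurveLib.subsingleton_mid (DevLib.cokerSeq_shortExact ψ) n

/-- The high powers of a module dominating an ample one are effective. -/
theorem exists_h_ne_zero {A L : X.Modules} (hA : CohB1.IsAmple A) (hL : PicF.IsInvertible L) {ν : ℕ}
    (hν : 0 < ν) (φ : A ⟶ CohB1.tensorPow L ν) [Mono φ] :
    ∃ m₀, ∀ m, m₀ ≤ m → VolLib.h k (CohB1.tensorPow L m) ≠ 0 := by
  haveI := EulerIneqLib.isNoetherian_proper (X := X) k
  choose N hN using fun b : ℕ => AmpleEmb.eventually_isGloballyGenerated hA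
    (CurveLib.isCoh_of_isInvertible (isInvertible_tensorPow hL b))
  refine ⟨ν * (∑ b ∈ Finset.range ν, N b), fun m hm h0 => ?_⟩
  have hj : N (m % ν) ≤ m / ν := le_trans
    (Finset.single_le_sum (f := N) (fun _ _ => Nat.zero_le _) (Finset.mem_range.2 (Nat.mod_lt _ hν)))
    ((Nat.le_div_iff_mul_le hν).2 (by rw [mul_comm]; exact hm))
  obtain ⟨ψ, hψ⟩ := exists_mono_twist hA.1 hL φ m
  have hI := isInvertible_tensor (isInvertible_tensorPow hL (m % ν)) (isInvertible_tensorPow hA.1 (m / ν))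
  obtain ⟨ι, p, hp⟩ := hN _ _ hj
  have h1 := h_mono k ψ (CurveLib.isCoh_of_isInvertible (isInvertible_tensorPow hL m))
  rw [h0, Nat.le_zero] at h1
  haveI := EulerIneqLib.finite_HH (k := k) (CurveLib.isCoh_of_isInvertible hI) 0
  haveI : Subsingleton (Coh.HH X (CohB1.tensorMod (CohB1.tensorPow L (m % ν))
      (CohB1.tensorPow A (m / ν))) 0) := Module.finrank_zero_iff.1 h1
  have hp0 : p = 0 := Sigma.hom_ext _ _ fun i => by
    rw [Limits.comp_zero]
    suffices hs : ∀ s : Coh.structureModule X ⟶ CohB1.tensorMod (CohB1.tensorPow L (m % ν))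
        (CohB1.tensorPow A (m / ν)), s = 0 from hs _
    intro s
    rw [← secHom_sec s]
    haveI : Subsingleton Γ(CohB1.tensorMod (CohB1.tensorPow L (m % ν)) (CohB1.tensorPow A (m / ν)), ⊤) :=
      (CurveLib.secOf _).symm.toEquiv.subsingleton
    rw [Subsingleton.elim (sec s) 0]
    exact DCohLib.hom_unit_ext (sec_secHom 0)
  exact ASBunKS.id_ne_zero_of_invertible hI
    (hp.left_cancellation (g := 𝟙 _) (h := 0) (by rw [hp0, Limits.zero_comp, Limits.zero_comp]))

end Groth.Agent.VanGrow
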